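import Mathlib
import Cfsg.Agent.Lib.Helper93.M11U.Defs

/-!
# S0420 package [SHARP] (helper10)

A group of order `7920` acting on `11` cosets so that no nonidentity element fixes four of them
is sharply `4`-transitive: the action on the `11 · 10 · 9 · 8 = 7920` injective `4`-tuples is
free, hence regular.
-/

set_option autoImplicit false

namespace Cfsg.Agent.Lib.Helper10.M11U

universe u

open Cfsg.Agent.Lib.Helper93.M11U

/-- **[SHARP]** -/
theorem pkgSharp : PkgSharp.{u} := by
  intro G _ _ M hG hM hfix x y
  classical
  have : Fintype (G ⧸ M) := Fintype.ofFinite _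
  have hcardQ : Fintype.card (G ⧸ M) = 11 := by
    rw [← Nat.card_eq_fintype_card]; exact hM
  have hX : Nat.card (Fin 4 ↪ G ⧸ M) = 7920 := by
    rw [Nat.card_eq_fintype_card, Fintype.card_embedding_eq, hcardQ, Fintype.card_fin]
    rfl
  have hfree : ∀ (g : G) (z : Fin 4 ↪ G ⧸ M), (∀ i, g • z i = z i) → g = 1 := by
    intro g z hz
    by_contra hg
    have h3 := hfix g hg
    have hinj : Function.Injective
        (fun i : Fin 4 => (⟨z i, hz i⟩ : {q : G ⧸ M // g • q = q})) := by
      intro i j hij
      exact z.injective (congrArg Subtype.val hij)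
    have h4 := Nat.card_le_card_of_injective _ hinj
    rw [Nat.card_eq_fintype_card, Fintype.card_fin] at h4
    unfold fixCount at h3
    omega
  have hinj : Function.Injective (fun g : G => g • x) := by
    intro g g' hgg
    have h1 : ∀ i, (g⁻¹ * g') • x i = x i := by
      intro i
      have := congrArg (fun f : Fin 4 ↪ G ⧸ M => f i) hgg
      simp only [Function.Embedding.smul_apply] at this
      rw [mul_smul, ← this, inv_smul_smul]
    have := hfree _ x h1
    exact inv_mul_eq_one.mp this
  have hbij := hinj.bijective_of_nat_card_le (by rw [hX, hG])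
  obtain ⟨g, hg0⟩ := hbij.2 y
  have hg : g • x = y := hg0
  refine ⟨g, ?_, ?_⟩
  · intro i
    have := congrArg (fun f : Fin 4 ↪ G ⧸ M => f i) hg
    simpa only [Function.Embedding.smul_apply] using this
  · intro g' hg'
    apply hinj
    show g' • x = g • x
    rw [hg]
    ext i
    rw [Function.Embedding.smul_apply]
    exact hg' i

end Cfsg.Agent.Lib.Helper10.M11U
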