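import Mathlib
import Cfsg.Agent.Lib.Helper93.M11U.Defs

/-!
# S0420 package [TRANSPORT] (helper10)

Isomorphic set systems have isomorphic automorphism groups (conjugation by the bijection).
Mathlib + Prelude only, universes `u`, `v`.
-/

set_option autoImplicit false

namespace Cfsg.Agent.Lib.Helper10.M11U

universe u v

open Cfsg.Agent.Lib.Helper93.M11U

open scoped Pointwise

/-- Membership in the automorphism group of a set system, in terms of images. -/
theorem mem_aut_iff {α : Type u} [DecidableEq α] (L : Set (Finset α)) (g : Equiv.Perm α) :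
    g ∈ Cfsg.setSystemAut L ↔ (fun b : Finset α => b.image g) '' L = L := by
  constructor
  · intro h
    have h1 : g • L = L := h
    rw [← Set.image_smul] at h1
    exact h1
  · intro h
    show g • L = L
    rw [← Set.image_smul]
    exact h

theorem image_image_symm {α : Type u} {β : Type v} [DecidableEq α] [DecidableEq β] (e : α ≃ β)
    (b : Finset α) : (b.image e).image e.symm = b := by
  ext x
  rw [Finset.mem_image]
  constructor
  · rintro ⟨y, hy, rfl⟩
    obtain ⟨z, hz, rfl⟩ := Finset.mem_image.mp hy
    rw [Equiv.symm_apply_apply]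
    exact hz
  · intro hx
    exact ⟨e x, Finset.mem_image_of_mem _ hx, Equiv.symm_apply_apply _ _⟩

theorem image_symm_eq {α : Type u} {β : Type v} [DecidableEq α] [DecidableEq β]
    {B : Set (Finset α)} {B' : Set (Finset β)} (e : α ≃ β)
    (he : (fun b : Finset α => b.image e) '' B = B') :
    (fun b : Finset β => b.image e.symm) '' B' = B := by
  subst he
  ext b
  constructor
  · rintro ⟨_, ⟨c, hc, rfl⟩, rfl⟩
    show (c.image e).image e.symm ∈ B
    rw [image_image_symm]
    exact hc
  · intro hbB
    exact ⟨b.image e, ⟨b, hbB, rfl⟩, image_image_symm e b⟩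

/-- Conjugating an automorphism by an isomorphism of set systems. -/
theorem conj_mem_aut {α : Type u} {β : Type v} [DecidableEq α] [DecidableEq β]
    {B : Set (Finset α)} {B' : Set (Finset β)} (e : α ≃ β)
    (he : (fun b : Finset α => b.image e) '' B = B')
    {g : Equiv.Perm α} (hg : g ∈ Cfsg.setSystemAut B) :
    e.permCongr g ∈ Cfsg.setSystemAut B' := by
  rw [mem_aut_iff] at hg ⊢
  have key : ∀ b : Finset α, (b.image e).image (e.permCongr g) = (b.image g).image e := by
    intro b
    rw [Finset.image_image, Finset.image_image]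
    apply Finset.image_congr
    intro x _
    simp [Equiv.permCongr_apply]
  subst he
  ext c
  constructor
  · rintro ⟨_, ⟨b, hb, rfl⟩, rfl⟩
    show (b.image e).image (e.permCongr g) ∈ _
    rw [key]
    refine ⟨b.image g, ?_, rfl⟩
    rw [← hg]
    exact ⟨b, hb, rfl⟩
  · rintro ⟨b, hb, rfl⟩
    rw [← hg] at hb
    obtain ⟨b0, hb0, rfl⟩ := hb
    refine ⟨b0.image e, ⟨b0, hb0, rfl⟩, ?_⟩
    show (b0.image e).image (e.permCongr g) = (b0.image g).image e
    exact key b0

/-- The isomorphism of automorphism groups induced by an isomorphism of set systems. -/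
noncomputable def autEquivOfIso {α : Type u} {β : Type v} [DecidableEq α] [DecidableEq β]
    {B : Set (Finset α)} {B' : Set (Finset β)} (e : α ≃ β)
    (he : (fun b : Finset α => b.image e) '' B = B') :
    ↥(Cfsg.setSystemAut B) ≃* ↥(Cfsg.setSystemAut B') where
  toFun g := ⟨e.permCongr g.1, conj_mem_aut e he g.2⟩
  invFun g := ⟨e.symm.permCongr g.1, conj_mem_aut e.symm (image_symm_eq e he) g.2⟩
  left_inv g := by
    apply Subtype.ext
    ext x
    simp [Equiv.permCongr_apply]
  right_inv g := by
    apply Subtype.ext
    ext x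
    simp [Equiv.permCongr_apply]
  map_mul' g h := by
    apply Subtype.ext
    ext x
    simp [Equiv.permCongr_apply]

/-- **[TRANSPORT]** -/
theorem pkgTransport : PkgTransport.{u, v} := by
  intro α β _ _ B B' h
  obtain ⟨e, he⟩ := h
  exact ⟨autEquivOfIso e he⟩

end Cfsg.Agent.Lib.Helper10.M11U
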